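import Groth.Agent.BalLib.Descent

/-!
# Extensions of group schemes without bilinear maps are central
-/

set_option autoImplicit false
set_option backward.isDefEq.respectTransparency false
set_option backward.isDefEq.respectTransparency.types false
universe u
open CategoryTheory CategoryTheory.Limits MonoidalCategory CartesianMonoidalCategory MonObj GrpObj AlgebraicGeometry

namespace Groth.Agent.ExtCentral

variable {S : Scheme.{u}}

theorem hasLocSec_whiskerRight {E P : Over S} {v : E ⟶ P} (hv : BalLib.HasLocSec v) (G : Over S) :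
    BalLib.HasLocSec (v ▷ G) := by
  obtain ⟨R, hR, hsec⟩ := hv
  refine ⟨R.pullback (fst P G).left, Scheme.fppfTopology.pullback_stable _ hR, fun T a ha => ?_⟩
  obtain ⟨s, hs⟩ := hsec _ ha
  let T' : Over S := Over.mk (a ≫ (P ⊗ G).hom)
  let a' : T' ⟶ P ⊗ G := Over.homMk a rfl
  let t : T' ⟶ E := Over.homMk s (by
    show s ≫ E.hom = a ≫ (P ⊗ G).hom
    rw [← Over.w v, ← Category.assoc, hs, Category.assoc, Over.w (fst P G)])
  refine ⟨(lift t (a' ≫ snd P G)).left, ?_⟩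
  have : lift t (a' ≫ snd P G) ≫ v ▷ G = a' := by
    refine CartesianMonoidalCategory.hom_ext _ _ ?_ ?_
    · rw [Category.assoc, whiskerRight_fst, lift_fst_assoc]; exact Over.OverMorphism.ext hs
    · rw [Category.assoc, whiskerRight_snd, lift_snd]
  exact congrArg CommaMorphism.left this

theorem hasLocSec_tensor' {E P : Over S} {v : E ⟶ P} (hv : BalLib.HasLocSec v) :
    BalLib.HasLocSec (v ⊗ₘ v) := by
  obtain ⟨R, hR, hsec⟩ := hv
  refine ⟨R.pullback (fst P P).left ⊓ R.pullback (snd P P).left,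
    Scheme.fppfTopology.intersection_covering (Scheme.fppfTopology.pullback_stable _ hR)
      (Scheme.fppfTopology.pullback_stable _ hR), fun T a ha => ?_⟩
  obtain ⟨s₁, hs₁⟩ := hsec _ ha.1
  obtain ⟨s₂, hs₂⟩ := hsec _ ha.2
  let T' : Over S := Over.mk (a ≫ (P ⊗ P).hom)
  let a' : T' ⟶ P ⊗ P := Over.homMk a rfl
  let t₁ : T' ⟶ E := Over.homMk s₁ (by
    show s₁ ≫ E.hom = a ≫ (P ⊗ P).hom
    rw [← Over.w v, ← Category.assoc, hs₁, Category.assoc, Over.w (fst P P)])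
  let t₂ : T' ⟶ E := Over.homMk s₂ (by
    show s₂ ≫ E.hom = a ≫ (P ⊗ P).hom
    rw [← Over.w v, ← Category.assoc, hs₂, Category.assoc, Over.w (snd P P)])
  refine ⟨(lift t₁ t₂).left, ?_⟩
  have : lift t₁ t₂ ≫ (v ⊗ₘ v) = a' := by
    rw [lift_map]
    refine CartesianMonoidalCategory.hom_ext _ _ ?_ ?_
    · rw [lift_fst]; exact Over.OverMorphism.ext hs₁
    · rw [lift_snd]; exact Over.OverMorphism.ext hs₂
  exact congrArg CommaMorphism.left this

variable {P G E : Over S} [GrpObj P] [GrpObj G] [GrpObj E] [IsCommMonObj G] {u : G ⟶ E} {v : E ⟶ P}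

theorem exists_ker (hex : NonAbH1.IsExactSeq Scheme.fppfPrecoverage u v) {T : Over S} (e : T ⟶ E)
    (he : e ≫ v = 1) : ∃ g : T ⟶ G, g ≫ u = e := by
  haveI := hex.2.1
  have h1 : (1 : T ⟶ E) ≫ v = e ≫ v := by rw [he, MonObj.one_comp]
  let l := hex.2.2.2.1.lift 1 e h1
  refine ⟨l ≫ snd E G, ?_⟩
  have hm : (E ◁ u) ≫ μ[E] = fst E G * (snd E G ≫ u) := by
    rw [Hom.mul_def]
    congr 1
  have h2 : l ≫ ((E ◁ u) ≫ μ[E]) = e := hex.2.2.2.1.lift_snd 1 e h1
  rw [hm, MonObj.comp_mul, ← Category.assoc, show l ≫ fst E G = 1 from hex.2.2.2.1.lift_fst 1 e h1,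
    _root_.one_mul] at h2
  exact h2

theorem ker_inj (hex : NonAbH1.IsExactSeq Scheme.fppfPrecoverage u v) {T : Over S} {g g' : T ⟶ G}
    (h : g ≫ u = g' ≫ u) : g = g' := by
  have hm : (E ◁ u) ≫ μ[E] = fst E G * (snd E G ≫ u) := by
    rw [Hom.mul_def]
    congr 1
  have : lift (1 : T ⟶ E) g = lift (1 : T ⟶ E) g' := by
    refine hex.2.2.2.1.hom_ext (by rw [lift_fst, lift_fst]) ?_
    rw [hm, MonObj.comp_mul, MonObj.comp_mul, lift_fst, lift_fst, lift_snd_assoc, lift_snd_assoc, h]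
  simpa using congrArg (· ≫ snd E G) this

theorem central (hex : NonAbH1.IsExactSeq Scheme.fppfPrecoverage u v)
    (hPG : ∀ f : P ⊗ G ⟶ G, lift (𝟙 P) (toUnit P ≫ η[G]) ≫ f = 1 → lift (toUnit G ≫ η[P]) (𝟙 G) ≫ f = 1 → f = 1)
    (T : Over S) (g : T ⟶ G) (x : T ⟶ E) : (g ≫ u) * x = x * (g ≫ u) := by
  haveI := hex.1
  haveI := hex.2.1
  have hloc := BalLib.hasLocSec_of_isLocallyTrivialFor v hex.2.2.2.2
  obtain ⟨c₀, hc₀⟩ := exists_ker hex (fst E G * (snd E G ≫ u) * (fst E G)⁻¹) (by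
    simp only [MonObj.mul_comp, GrpObj.inv_comp, Category.assoc, hex.2.2.1, MonObj.comp_one, _root_.mul_one]
    exact mul_inv_cancel _)
  let c := c₀ * (snd E G)⁻¹
  have hc : ∀ {T : Over S} (x : T ⟶ E) (g : T ⟶ G),
      (lift x g ≫ c) ≫ u = x * (g ≫ u) * x⁻¹ * (g ≫ u)⁻¹ := fun x g => by
    simp only [c, MonObj.comp_mul, GrpObj.comp_inv, MonObj.mul_comp, GrpObj.inv_comp, Category.assoc, hc₀]
    simp only [← Category.assoc, lift_fst, lift_snd]
  have hinvar : ∀ {T : Over S} (x : T ⟶ E) (g h : T ⟶ G), lift (x * (h ≫ u)) g ≫ c = lift x g ≫ c :=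
    fun x g h => by
    refine ker_inj hex ?_
    have e : (h ≫ u) * (g ≫ u) = (g ≫ u) * (h ≫ u) := by
      rw [← MonObj.mul_comp, ← MonObj.mul_comp, _root_.mul_comm]
    rw [hc, hc, _root_.mul_assoc x (h ≫ u), e]
    group
  have hinv : ∀ (T : Over S) (a b : T ⟶ E ⊗ G), a ≫ v ▷ G = b ≫ v ▷ G → a ≫ c = b ≫ c := fun T a b hab => by
    have e₁ := congrArg (· ≫ fst P G) hab
    have e₂ := congrArg (· ≫ snd P G) hab
    simp only [Category.assoc, whiskerRight_fst, whiskerRight_snd] at e₁ e₂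
    obtain ⟨h, hh⟩ := exists_ker hex ((a ≫ fst E G)⁻¹ * (b ≫ fst E G)) (by
      rw [MonObj.mul_comp, GrpObj.inv_comp, Category.assoc, Category.assoc, e₁, inv_mul_cancel])
    have hb : b = lift ((a ≫ fst E G) * (h ≫ u)) (a ≫ snd E G) := by
      rw [hh, mul_inv_cancel_left, e₂]
      apply CartesianMonoidalCategory.hom_ext <;> simp
    have ha : a = lift (a ≫ fst E G) (a ≫ snd E G) := by
      apply CartesianMonoidalCategory.hom_ext <;> simp
    rw [hb, hinvar, ← ha]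
  obtain ⟨cb, hcb, -⟩ := (hasLocSec_whiskerRight hloc G).existsUnique_desc c hinv
  have hone : ∀ {T : Over S} (x : T ⟶ E) (g : T ⟶ G), x = 1 ∨ g = 1 → lift x g ≫ c = 1 := fun x g hxg => by
    refine ker_inj hex ?_
    rw [hc, MonObj.one_comp]
    rcases hxg with rfl | rfl <;> simp
  have hcb1 : cb = 1 := by
    refine hPG cb (hloc.hom_ext ?_) ?_
    · have e : v ≫ lift (𝟙 P) (toUnit P ≫ η[G]) = lift (𝟙 E) (1 : E ⟶ G) ≫ v ▷ G := by
        apply CartesianMonoidalCategory.hom_ext <;>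
          simp [← Hom.one_def, MonObj.comp_one]
      rw [← Category.assoc, e, Category.assoc, hcb, hone _ _ (Or.inr rfl), MonObj.comp_one]
    · have e : lift (toUnit G ≫ η[P]) (𝟙 G) = lift (1 : G ⟶ E) (𝟙 G) ≫ v ▷ G := by
        apply CartesianMonoidalCategory.hom_ext <;>
          simp [← Hom.one_def, MonObj.one_comp]
      rw [e, Category.assoc, hcb, hone _ _ (Or.inl rfl)]
  rw [hcb1, MonObj.comp_one] at hcb
  have h := hc x g
  rw [← hcb, MonObj.comp_one, MonObj.one_comp] at h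
  have h2 := eq_of_mul_inv_eq_one h.symm
  rw [mul_inv_eq_iff_eq_mul] at h2
  exact h2.symm

theorem isComm (hex : NonAbH1.IsExactSeq Scheme.fppfPrecoverage u v) [IsCommMonObj P]
    (hcen : ∀ (T : Over S) (g : T ⟶ G) (x : T ⟶ E), (g ≫ u) * x = x * (g ≫ u))
    (hPP : ∀ f : P ⊗ P ⟶ G, lift (𝟙 P) (toUnit P ≫ η[P]) ≫ f = 1 → lift (toUnit P ≫ η[P]) (𝟙 P) ≫ f = 1 → f = 1) :
    IsCommMonObj E := by
  haveI := hex.1
  haveI := hex.2.1
  have hloc := BalLib.hasLocSec_of_isLocallyTrivialFor v hex.2.2.2.2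
  obtain ⟨c, hc₀⟩ := exists_ker hex (fst E E * snd E E * (fst E E)⁻¹ * (snd E E)⁻¹) (by
    simp only [MonObj.mul_comp, GrpObj.inv_comp]
    rw [_root_.mul_comm (fst E E ≫ v) (snd E E ≫ v), mul_inv_cancel_right, mul_inv_cancel])
  have hc : ∀ {T : Over S} (x y : T ⟶ E), (lift x y ≫ c) ≫ u = x * y * x⁻¹ * y⁻¹ := fun x y => by
    rw [Category.assoc, hc₀]
    simp only [MonObj.comp_mul, GrpObj.comp_inv, lift_fst, lift_snd]
  have hinv : ∀ (T : Over S) (a b : T ⟶ E ⊗ E), a ≫ (v ⊗ₘ v) = b ≫ (v ⊗ₘ v) → a ≫ c = b ≫ c := fun T a b hab => by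
    have e₁ := congrArg (· ≫ fst P P) hab
    have e₂ := congrArg (· ≫ snd P P) hab
    simp only [Category.assoc, tensorHom_fst, tensorHom_snd] at e₁ e₂
    obtain ⟨g, hg⟩ := exists_ker hex ((a ≫ fst E E)⁻¹ * (b ≫ fst E E)) (by
      rw [MonObj.mul_comp, GrpObj.inv_comp, Category.assoc, Category.assoc, e₁, inv_mul_cancel])
    obtain ⟨h, hh⟩ := exists_ker hex ((a ≫ snd E E)⁻¹ * (b ≫ snd E E)) (by
      rw [MonObj.mul_comp, GrpObj.inv_comp, Category.assoc, Category.assoc, e₂, inv_mul_cancel])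
    have ha : a = lift (a ≫ fst E E) (a ≫ snd E E) := by
      apply CartesianMonoidalCategory.hom_ext <;> simp
    have hb : b = lift ((g ≫ u) * (a ≫ fst E E)) ((h ≫ u) * (a ≫ snd E E)) := by
      rw [hcen, hcen, hg, hh, mul_inv_cancel_left, mul_inv_cancel_left]
      apply CartesianMonoidalCategory.hom_ext <;> simp
    refine ker_inj hex ?_
    rw [hb]
    conv_lhs => rw [ha]
    rw [hc, hc]
    have cx : ∀ w : T ⟶ E, (g ≫ u) * w = w * (g ≫ u) := fun w => hcen T g w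
    have cy : ∀ w : T ⟶ E, (h ≫ u) * w = w * (h ≫ u) := fun w => hcen T h w
    generalize a ≫ fst E E = x, a ≫ snd E E = y
    symm
    calc (g ≫ u) * x * ((h ≫ u) * y) * ((g ≫ u) * x)⁻¹ * ((h ≫ u) * y)⁻¹
        = (g ≫ u) * (x * (h ≫ u)) * y * x⁻¹ * (g ≫ u)⁻¹ * y⁻¹ * (h ≫ u)⁻¹ := by group
      _ = (g ≫ u) * ((h ≫ u) * (x * y * x⁻¹)) * (g ≫ u)⁻¹ * y⁻¹ * (h ≫ u)⁻¹ := by rw [← cy]; group
      _ = ((h ≫ u) * (x * y * x⁻¹)) * (g ≫ u) * (g ≫ u)⁻¹ * y⁻¹ * (h ≫ u)⁻¹ := by rw [cx]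
      _ = (h ≫ u) * (x * y * x⁻¹ * y⁻¹) * (h ≫ u)⁻¹ := by group
      _ = x * y * x⁻¹ * y⁻¹ := by rw [cy]; group
  obtain ⟨cb, hcb, -⟩ := (hasLocSec_tensor' hloc).existsUnique_desc c hinv
  have hone : ∀ {T : Over S} (x y : T ⟶ E), x = 1 ∨ y = 1 → lift x y ≫ c = 1 := fun x y hxy => by
    refine ker_inj hex ?_
    rw [hc, MonObj.one_comp]
    rcases hxy with rfl | rfl <;> simp
  have hcb1 : cb = 1 := by
    refine hPP cb (hloc.hom_ext ?_) (hloc.hom_ext ?_)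
    · have e : v ≫ lift (𝟙 P) (toUnit P ≫ η[P]) = lift (𝟙 E) (1 : E ⟶ E) ≫ (v ⊗ₘ v) := by
        rw [comp_lift, lift_map, Category.comp_id, Category.id_comp, MonObj.one_comp, ← Hom.one_def, MonObj.comp_one]
      rw [← Category.assoc, e, Category.assoc, hcb, hone _ _ (Or.inr rfl), MonObj.comp_one]
    · have e : v ≫ lift (toUnit P ≫ η[P]) (𝟙 P) = lift (1 : E ⟶ E) (𝟙 E) ≫ (v ⊗ₘ v) := by
        rw [comp_lift, lift_map, Category.comp_id, Category.id_comp, MonObj.one_comp, ← Hom.one_def, MonObj.comp_one]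
      rw [← Category.assoc, e, Category.assoc, hcb, hone _ _ (Or.inl rfl), MonObj.comp_one]
  rw [hcb1, MonObj.comp_one] at hcb
  refine ⟨?_⟩
  have h := hc (snd E E) (fst E E)
  rw [← hcb, MonObj.comp_one, MonObj.one_comp] at h
  have h2 := eq_of_mul_inv_eq_one h.symm
  rw [mul_inv_eq_iff_eq_mul] at h2
  calc (β_ E E).hom ≫ μ[E] = snd E E * fst E E := by
        rw [Hom.mul_def]; congr 1

    _ = fst E E * snd E E := h2
    _ = μ[E] := by rw [Hom.mul_def, lift_fst_snd, Category.id_comp]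

end Groth.Agent.ExtCentral
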